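import Mathlib.Algebra.MonoidAlgebra.MapDomain
import Mathlib.Algebra.Group.UniqueProds.Basic
import Mathlib.LinearAlgebra.Matrix.ToLin
import Mathlib.LinearAlgebra.Matrix.Notation
import Mathlib.RingTheory.Noetherian.Nilpotent
import Mathlib.RingTheory.Nilpotent.Lemmas
import Mathlib.RingTheory.Ideal.Quotient.Basic
import Groth.Agent.Lib.TorusUnits.Basic

/-!
The second cohomology of units of the cosimplicial Laurent polynomial ring vanishes.
-/

set_option autoImplicit false
universe u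

open AddMonoidAlgebra

namespace Groth.Agent.H52.Laurent

variable {A : Type u} [CommRing A] {M N : Type} [AddCommMonoid M] [AddCommMonoid N]

/-- Elements with all coefficients in `I`. -/
noncomputable def CI (I : Ideal A) (M : Type) [AddCommMonoid M] : Ideal (AddMonoidAlgebra A M) :=
  RingHom.ker (mapRingHom M (Ideal.Quotient.mk I))

lemma mem_CI {I : Ideal A} {x : AddMonoidAlgebra A M} : x ∈ CI I M ↔ ∀ m, x.coeff m ∈ I := by
  rw [CI, RingHom.mem_ker, ← coeff_inj, Finsupp.ext_iff]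
  simp [coeff_mapRingHom, Ideal.Quotient.eq_zero_iff_mem]

lemma eq_zero_of_mem_CI_bot {x : AddMonoidAlgebra A M} (h : x ∈ CI (⊥ : Ideal A) M) : x = 0 :=
  coeff_injective (Finsupp.ext fun m => by simpa using mem_CI.1 h m)

lemma CI_mono {I J : Ideal A} (h : I ≤ J) : CI I M ≤ CI J M :=
  fun _ hx => mem_CI.2 fun m => h (mem_CI.1 hx m)

lemma single_mem_CI {I : Ideal A} {a : A} (ha : a ∈ I) (m : M) : single m a ∈ CI I M := by
  rw [CI, RingHom.mem_ker, mapRingHom_single, Ideal.Quotient.eq_zero_iff_mem.2 ha, single_zero]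

lemma mul_mem_CI {I J : Ideal A} {x y : AddMonoidAlgebra A M} (hx : x ∈ CI I M) (hy : y ∈ CI J M) :
    x * y ∈ CI (I * J) M := by
  rw [← sum_coeff_single x, ← sum_coeff_single y, Finsupp.sum, Finsupp.sum, Finset.sum_mul_sum]
  refine sum_mem fun a _ => sum_mem fun b _ => ?_
  rw [single_mul_single]
  exact single_mem_CI (Ideal.mul_mem_mul (mem_CI.1 hx a) (mem_CI.1 hy b)) _

lemma pow_mem_CI {I : Ideal A} {x : AddMonoidAlgebra A M} (hx : x ∈ CI I M) (k : ℕ) :
    x ^ k ∈ CI (I ^ k) M := by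
  induction k with
  | zero => exact mem_CI.2 fun m => by simp
  | succ k ih => rw [pow_succ, pow_succ]; exact mul_mem_CI ih hx

lemma map_mem_CI {I : Ideal A} {x : AddMonoidAlgebra A M} (φ : M →+ N) (hx : x ∈ CI I M) :
    mapDomainRingHom A φ x ∈ CI I N := by
  rw [CI, RingHom.mem_ker] at hx ⊢
  have := RingHom.congr_fun (mapRingHom_comp_mapDomainRingHom (Ideal.Quotient.mk I) φ) x
  simp only [RingHom.comp_apply] at this
  rw [this, hx, map_zero]

lemma coeff_md_range {φ : M →+ N} (hφ : Function.Injective φ) (x : AddMonoidAlgebra A M) {n : N} {m : M}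
    (h : φ m = n) : (mapDomainRingHom A φ x).coeff n = x.coeff m := by
  subst h
  show Finsupp.mapDomain φ x.coeff (φ m) = _
  exact Finsupp.mapDomain_apply hφ _ _

lemma coeff_md_not_range {φ : M →+ N} (x : AddMonoidAlgebra A M) {n : N}
    (h : ∀ m, φ m ≠ n) : (mapDomainRingHom A φ x).coeff n = 0 := by
  show Finsupp.mapDomain φ x.coeff n = _
  exact Finsupp.mapDomain_of_notMem_range _ _ (fun ⟨m, hm⟩ => h m hm)

/-- The seven structure maps. -/
noncomputable abbrev M0 : (Fin 2 → ℤ) →+ (Fin 3 → ℤ) :=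
  (Matrix.mulVecLin (!![0, 0; 1, 0; 0, 1] : Matrix (Fin 3) (Fin 2) ℤ)).toAddMonoidHom
noncomputable abbrev M1 : (Fin 2 → ℤ) →+ (Fin 3 → ℤ) :=
  (Matrix.mulVecLin (!![1, 0; 1, 0; 0, 1] : Matrix (Fin 3) (Fin 2) ℤ)).toAddMonoidHom
noncomputable abbrev M2 : (Fin 2 → ℤ) →+ (Fin 3 → ℤ) :=
  (Matrix.mulVecLin (!![1, 0; 0, 1; 0, 1] : Matrix (Fin 3) (Fin 2) ℤ)).toAddMonoidHom
noncomputable abbrev M3 : (Fin 2 → ℤ) →+ (Fin 3 → ℤ) :=
  (Matrix.mulVecLin (!![1, 0; 0, 1; 0, 0] : Matrix (Fin 3) (Fin 2) ℤ)).toAddMonoidHom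
noncomputable abbrev N0 : (Fin 1 → ℤ) →+ (Fin 2 → ℤ) :=
  (Matrix.mulVecLin (!![0; 1] : Matrix (Fin 2) (Fin 1) ℤ)).toAddMonoidHom
noncomputable abbrev N1 : (Fin 1 → ℤ) →+ (Fin 2 → ℤ) :=
  (Matrix.mulVecLin (!![1; 1] : Matrix (Fin 2) (Fin 1) ℤ)).toAddMonoidHom
noncomputable abbrev N2 : (Fin 1 → ℤ) →+ (Fin 2 → ℤ) :=
  (Matrix.mulVecLin (!![1; 0] : Matrix (Fin 2) (Fin 1) ℤ)).toAddMonoidHom

lemma M0_apply (e : Fin 2 → ℤ) : M0 e = ![0, e 0, e 1] := by
  ext i; fin_cases i <;> simp [Matrix.mulVec, dotProduct, Fin.sum_univ_two]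
lemma M1_apply (e : Fin 2 → ℤ) : M1 e = ![e 0, e 0, e 1] := by
  ext i; fin_cases i <;> simp [Matrix.mulVec, dotProduct, Fin.sum_univ_two]
lemma M2_apply (e : Fin 2 → ℤ) : M2 e = ![e 0, e 1, e 1] := by
  ext i; fin_cases i <;> simp [Matrix.mulVec, dotProduct, Fin.sum_univ_two]
lemma M3_apply (e : Fin 2 → ℤ) : M3 e = ![e 0, e 1, 0] := by
  ext i; fin_cases i <;> simp [Matrix.mulVec, dotProduct, Fin.sum_univ_two]
lemma N0_apply (e : Fin 1 → ℤ) : N0 e = ![0, e 0] := by
  ext i; fin_cases i <;> simp [Matrix.mulVec, dotProduct]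
lemma N1_apply (e : Fin 1 → ℤ) : N1 e = ![e 0, e 0] := by
  ext i; fin_cases i <;> simp [Matrix.mulVec, dotProduct]
lemma N2_apply (e : Fin 1 → ℤ) : N2 e = ![e 0, 0] := by
  ext i; fin_cases i <;> simp [Matrix.mulVec, dotProduct]

lemma M0_inj : Function.Injective M0 := fun x y h => by
  simp only [M0_apply] at h
  have h1 := congrFun h 1; have h2 := congrFun h 2
  ext i; fin_cases i <;> simp_all
lemma M1_inj : Function.Injective M1 := fun x y h => by
  simp only [M1_apply] at h
  have h1 := congrFun h 1; have h2 := congrFun h 2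
  ext i; fin_cases i <;> simp_all
lemma M2_inj : Function.Injective M2 := fun x y h => by
  simp only [M2_apply] at h
  have h1 := congrFun h 0; have h2 := congrFun h 2
  ext i; fin_cases i <;> simp_all
lemma M3_inj : Function.Injective M3 := fun x y h => by
  simp only [M3_apply] at h
  have h1 := congrFun h 0; have h2 := congrFun h 1
  ext i; fin_cases i <;> simp_all
lemma N0_inj : Function.Injective N0 := fun x y h => by
  simp only [N0_apply] at h
  have h1 := congrFun h 1
  ext i; fin_cases i; simpa using h1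
lemma N1_inj : Function.Injective N1 := fun x y h => by
  simp only [N1_apply] at h
  have h1 := congrFun h 1
  ext i; fin_cases i; simpa using h1
lemma N2_inj : Function.Injective N2 := fun x y h => by
  simp only [N2_apply] at h
  have h1 := congrFun h 0
  ext i; fin_cases i; simpa using h1

/-- The linearised differential at the point `(0, a, b)` computes `f - δ g`. -/
lemma coeff_linear (f : AddMonoidAlgebra A (Fin 2 → ℤ)) (a b : ℤ) :
    (f + mapDomainRingHom A N1 (comapDomain N0 N0_inj f) - mapDomainRingHom A N0 (comapDomain N0 N0_inj f)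
        - mapDomainRingHom A N2 (comapDomain N0 N0_inj f)).coeff ![a, b] =
      (mapDomainRingHom A M0 f + mapDomainRingHom A M2 f - mapDomainRingHom A M1 f
        - mapDomainRingHom A M3 f).coeff ![0, a, b] := by
  have hg : ∀ t, (comapDomain N0 N0_inj f).coeff t = f.coeff ![0, t 0] := fun t => by
    simp only [coeff_comapDomain, Finsupp.comapDomain_apply, N0_apply]
  simp only [coeff_add, coeff_sub, Finsupp.add_apply, Finsupp.sub_apply]
  have h0 : (mapDomainRingHom A M0 f).coeff ![0, a, b] = f.coeff ![a, b] :=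
    coeff_md_range M0_inj f (by rw [M0_apply]; simp)
  have h1 : (mapDomainRingHom A M1 f).coeff ![0, a, b] =
      (mapDomainRingHom A N0 (comapDomain N0 N0_inj f)).coeff ![a, b] := by
    by_cases h : a = 0
    · subst h
      rw [coeff_md_range M1_inj f (m := ![0, b]) (by rw [M1_apply]; simp),
        coeff_md_range N0_inj _ (m := ![b]) (by rw [N0_apply]; simp), hg]
      simp
    · rw [coeff_md_not_range, coeff_md_not_range]
      · intro m hm; rw [N0_apply] at hm; exact h (by simpa using (congrFun hm 0).symm)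
      · intro m hm; rw [M1_apply] at hm
        have i0 := congrFun hm 0; have i1 := congrFun hm 1
        simp_all
  have h2 : (mapDomainRingHom A M2 f).coeff ![0, a, b] =
      (mapDomainRingHom A N1 (comapDomain N0 N0_inj f)).coeff ![a, b] := by
    by_cases h : a = b
    · subst h
      rw [coeff_md_range M2_inj f (m := ![0, a]) (by rw [M2_apply]; simp),
        coeff_md_range N1_inj _ (m := ![a]) (by rw [N1_apply]; simp), hg]
      simp
    · rw [coeff_md_not_range, coeff_md_not_range]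
      · intro m hm; rw [N1_apply] at hm
        have i0 := congrFun hm 0; have i1 := congrFun hm 1
        simp_all
      · intro m hm; rw [M2_apply] at hm
        have i0 := congrFun hm 1; have i1 := congrFun hm 2
        simp_all
  have h3 : (mapDomainRingHom A M3 f).coeff ![0, a, b] =
      (mapDomainRingHom A N2 (comapDomain N0 N0_inj f)).coeff ![a, b] := by
    by_cases h : b = 0
    · subst h
      rw [coeff_md_range M3_inj f (m := ![0, a]) (by rw [M3_apply]; simp),
        coeff_md_range N2_inj _ (m := ![a]) (by rw [N2_apply]; simp), hg]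
      simp
    · rw [coeff_md_not_range, coeff_md_not_range]
      · intro m hm; rw [N2_apply] at hm; exact h (by simpa using (congrFun hm 1).symm)
      · intro m hm; rw [M3_apply] at hm; exact h (by simpa using (congrFun hm 2).symm)
  rw [h0, h1, h2, h3]

/-- The map on units. -/
noncomputable abbrev U (φ : M →+ N) : (AddMonoidAlgebra A M)ˣ →* (AddMonoidAlgebra A N)ˣ :=
  Units.map (mapDomainRingHom A φ).toMonoidHom

lemma val_U (φ : M →+ N) (x : (AddMonoidAlgebra A M)ˣ) :
    (U φ x : AddMonoidAlgebra A N) = mapDomainRingHom A φ x := rfl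

lemma U_comp {P : Type} [AddCommMonoid P] (φ : N →+ P) (ψ : M →+ N) (x : (AddMonoidAlgebra A M)ˣ) :
    U φ (U ψ x) = U (φ.comp ψ) x := by
  apply Units.ext
  simp only [val_U]
  rw [mapDomainRingHom_comp]
  rfl

/-- The coboundary. -/
noncomputable def delta : (AddMonoidAlgebra A (Fin 1 → ℤ))ˣ →* (AddMonoidAlgebra A (Fin 2 → ℤ))ˣ :=
  U N0 * (U N1)⁻¹ * U N2

lemma delta_apply (η : (AddMonoidAlgebra A (Fin 1 → ℤ))ˣ) : delta η = U N0 η * (U N1 η)⁻¹ * U N2 η := rfl

/-- The cocycle condition. -/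
def IsCocycle (ξ : (AddMonoidAlgebra A (Fin 2 → ℤ))ˣ) : Prop := U M0 ξ * U M2 ξ = U M1 ξ * U M3 ξ

lemma isCocycle_delta (η : (AddMonoidAlgebra A (Fin 1 → ℤ))ˣ) : IsCocycle (delta η) := by
  have e00 : M1.comp N0 = M0.comp N0 := by
    refine AddMonoidHom.ext fun e => ?_; simp only [AddMonoidHom.comp_apply, M0_apply, M1_apply, N0_apply]; rfl
  have e20 : M2.comp N0 = M0.comp N1 := by
    refine AddMonoidHom.ext fun e => ?_; simp only [AddMonoidHom.comp_apply, M0_apply, M2_apply, N0_apply, N1_apply]; rfl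
  have e30 : M3.comp N0 = M0.comp N2 := by
    refine AddMonoidHom.ext fun e => ?_; simp only [AddMonoidHom.comp_apply, M0_apply, M3_apply, N0_apply, N2_apply]; rfl
  have e21 : M2.comp N1 = M1.comp N1 := by
    refine AddMonoidHom.ext fun e => ?_; simp only [AddMonoidHom.comp_apply, M1_apply, M2_apply, N1_apply]; rfl
  have e31 : M3.comp N1 = M1.comp N2 := by
    refine AddMonoidHom.ext fun e => ?_; simp only [AddMonoidHom.comp_apply, M1_apply, M3_apply, N1_apply, N2_apply]; rfl
  have e32 : M3.comp N2 = M2.comp N2 := by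
    refine AddMonoidHom.ext fun e => ?_; simp only [AddMonoidHom.comp_apply, M2_apply, M3_apply, N2_apply]; rfl
  simp only [IsCocycle, delta_apply, map_mul, map_inv, U_comp, e00, e20, e30, e21, e31, e32]
  apply Additive.ofMul.injective
  simp only [ofMul_mul, ofMul_inv]
  abel

lemma IsCocycle.mul {x y : (AddMonoidAlgebra A (Fin 2 → ℤ))ˣ} (hx : IsCocycle x) (hy : IsCocycle y) :
    IsCocycle (x * y) := by
  unfold IsCocycle at *
  rw [map_mul, map_mul, map_mul, map_mul, mul_mul_mul_comm, hx, hy, mul_mul_mul_comm]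

lemma IsCocycle.inv {x : (AddMonoidAlgebra A (Fin 2 → ℤ))ˣ} (hx : IsCocycle x) : IsCocycle x⁻¹ := by
  unfold IsCocycle at *
  rw [map_inv, map_inv, map_inv, map_inv, ← mul_inv, hx, mul_inv]

/-- The successive approximation. -/
lemma step {I : Ideal A} {n : ℕ} (hI : I ^ n = ⊥) {ξ : (AddMonoidAlgebra A (Fin 2 → ℤ))ˣ}
    (hξ : IsCocycle ξ) (hf : (ξ : AddMonoidAlgebra A (Fin 2 → ℤ)) - 1 ∈ CI I _) :
    ∃ η, ((ξ * (delta η)⁻¹ : (AddMonoidAlgebra A (Fin 2 → ℤ))ˣ) : AddMonoidAlgebra A (Fin 2 → ℤ)) - 1 ∈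
      CI (I * I) _ := by
  set f := (ξ : AddMonoidAlgebra A (Fin 2 → ℤ)) - 1 with hfdef
  set g := comapDomain N0 N0_inj f with hgdef
  have hg : g ∈ CI I _ := mem_CI.2 fun t => by
    rw [hgdef, coeff_comapDomain, Finsupp.comapDomain_apply]; exact mem_CI.1 hf _
  have hgn : IsNilpotent g := ⟨n, eq_zero_of_mem_CI_bot (hI ▸ pow_mem_CI hg n)⟩
  refine ⟨hgn.isUnit_one_add.unit, ?_⟩
  set η := hgn.isUnit_one_add.unit
  have hη : (η : AddMonoidAlgebra A (Fin 1 → ℤ)) = 1 + g := rfl
  have hlin : mapDomainRingHom A M0 f + mapDomainRingHom A M2 f - mapDomainRingHom A M1 f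
      - mapDomainRingHom A M3 f ∈ CI (I * I) _ := by
    have h := congrArg Units.val hξ
    simp only [Units.val_mul, val_U] at h
    rw [show (ξ : AddMonoidAlgebra A (Fin 2 → ℤ)) = 1 + f from (add_sub_cancel 1 _).symm] at h
    simp only [map_add, map_one] at h
    rw [show mapDomainRingHom A M0 f + mapDomainRingHom A M2 f - mapDomainRingHom A M1 f
        - mapDomainRingHom A M3 f = mapDomainRingHom A M1 f * mapDomainRingHom A M3 f
          - mapDomainRingHom A M0 f * mapDomainRingHom A M2 f by linear_combination h]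
    exact sub_mem (mul_mem_CI (map_mem_CI _ hf) (map_mem_CI _ hf))
      (mul_mem_CI (map_mem_CI _ hf) (map_mem_CI _ hf))
  have hh : f + mapDomainRingHom A N1 g - mapDomainRingHom A N0 g - mapDomainRingHom A N2 g ∈
      CI (I * I) _ := by
    refine mem_CI.2 fun e => ?_
    have he : e = ![e 0, e 1] := by ext i; fin_cases i <;> rfl
    rw [he, hgdef, coeff_linear]
    exact mem_CI.1 hlin _
  have key : (ξ : AddMonoidAlgebra A (Fin 2 → ℤ)) * (U N1 η : _) -
      ((U N0 η * U N2 η : (AddMonoidAlgebra A (Fin 2 → ℤ))ˣ) : AddMonoidAlgebra A (Fin 2 → ℤ)) ∈ CI (I * I) _ := by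
    simp only [Units.val_mul, val_U, hη, map_add, map_one]
    rw [show (ξ : AddMonoidAlgebra A (Fin 2 → ℤ)) = 1 + f from (add_sub_cancel 1 _).symm]
    rw [show (1 + f) * (1 + mapDomainRingHom A N1 g)
        - (1 + mapDomainRingHom A N0 g) * (1 + mapDomainRingHom A N2 g) =
        (f + mapDomainRingHom A N1 g - mapDomainRingHom A N0 g - mapDomainRingHom A N2 g)
          + (f * mapDomainRingHom A N1 g - mapDomainRingHom A N0 g * mapDomainRingHom A N2 g) by ring]
    exact add_mem hh (sub_mem (mul_mem_CI hf (map_mem_CI _ hg))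
      (mul_mem_CI (map_mem_CI _ hg) (map_mem_CI _ hg)))
  have e : ξ * (delta η)⁻¹ = ξ * U N1 η * (U N0 η * U N2 η)⁻¹ := by
    rw [delta_apply]
    apply Additive.ofMul.injective
    simp only [ofMul_mul, ofMul_inv]
    abel
  have key2 := Ideal.mul_mem_right
    (((U N0 η * U N2 η)⁻¹ : (AddMonoidAlgebra A (Fin 2 → ℤ))ˣ) : AddMonoidAlgebra A (Fin 2 → ℤ)) _ key
  rw [sub_mul, Units.mul_inv, ← Units.val_mul, ← Units.val_mul] at key2
  rw [e]
  exact key2

theorem exists_coboundary (ξ : (AddMonoidAlgebra A (Fin 2 → ℤ))ˣ) (hξ : IsCocycle ξ) :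
    ∃ η, ξ = delta η := by
  classical
  -- modulo a prime, only the constant coefficient survives
  have hprime : ∀ P : Ideal A, P.IsPrime →
      (ξ : AddMonoidAlgebra A (Fin 2 → ℤ)).coeff 0 ∉ P ∧
      ∀ m, m ≠ 0 → (ξ : AddMonoidAlgebra A (Fin 2 → ℤ)).coeff m ∈ P := by
    intro P hP
    let π := mapRingHom (Fin 2 → ℤ) (Ideal.Quotient.mk P)
    obtain ⟨e, c, hec⟩ := Groth.Agent.Lib.TorusUnits.Basic.exists_eq_single_of_isUnit
      (ξ.isUnit.map π)
    have hc : c ≠ 0 := fun hc => (ξ.isUnit.map π).ne_zero (by rw [hec, hc, single_zero])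
    have hM : ∀ φ : (Fin 2 → ℤ) →+ (Fin 3 → ℤ),
        mapRingHom _ (Ideal.Quotient.mk P) (U φ ξ : AddMonoidAlgebra A _) = single (φ e) c := fun φ => by
      rw [val_U, ← RingHom.comp_apply, mapRingHom_comp_mapDomainRingHom, RingHom.comp_apply, hec]
      exact mapDomain_single
    have h := congrArg (fun x : (AddMonoidAlgebra A (Fin 3 → ℤ))ˣ =>
      mapRingHom (Fin 3 → ℤ) (Ideal.Quotient.mk P) (x : AddMonoidAlgebra A (Fin 3 → ℤ))) hξ
    simp only [Units.val_mul, map_mul, hM, single_mul_single] at h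
    have h' := congrArg AddMonoidAlgebra.coeff h
    simp only [coeff_single] at h'
    rcases (Finsupp.single_eq_single_iff _ _ _ _).1 h' with ⟨he, -⟩ | ⟨h0, -⟩
    swap
    · exact absurd h0 (mul_ne_zero hc hc)
    rw [M0_apply, M1_apply, M2_apply, M3_apply] at he
    have he0 : e = 0 := by
      have i0 := congrFun he 0; have i2 := congrFun he 2
      simp at i0 i2
      ext i; fin_cases i <;> simp <;> omega
    subst he0
    have hcoef : ∀ m, Ideal.Quotient.mk P ((ξ : AddMonoidAlgebra A (Fin 2 → ℤ)).coeff m) =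
        if (0 : Fin 2 → ℤ) = m then c else 0 := fun m => by
      rw [← coeff_mapRingHom, hec, coeff_single, Finsupp.single_apply]
    refine ⟨fun hmem => hc ?_, fun m hm => ?_⟩
    · have := hcoef 0
      rw [Ideal.Quotient.eq_zero_iff_mem.2 hmem, if_pos rfl] at this
      exact this.symm
    · have := hcoef m
      rw [if_neg (Ne.symm hm)] at this
      exact Ideal.Quotient.eq_zero_iff_mem.1 this
  have hc0 : IsUnit ((ξ : AddMonoidAlgebra A (Fin 2 → ℤ)).coeff 0) := by
    by_contra h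
    obtain ⟨P, hP, hmem⟩ := exists_max_ideal_of_mem_nonunits h
    exact (hprime P hP.isPrime).1 hmem
  -- remove the constant
  let η₀ : (AddMonoidAlgebra A (Fin 1 → ℤ))ˣ := (hc0.map (singleZeroRingHom (M := Fin 1 → ℤ))).unit
  have hη₀ : (delta η₀ : AddMonoidAlgebra A (Fin 2 → ℤ)) =
      single 0 ((ξ : AddMonoidAlgebra A (Fin 2 → ℤ)).coeff 0) := by
    have h : ∀ φ : (Fin 1 → ℤ) →+ (Fin 2 → ℤ), (U φ η₀ : AddMonoidAlgebra A (Fin 2 → ℤ)) =
        single 0 ((ξ : AddMonoidAlgebra A (Fin 2 → ℤ)).coeff 0) := fun φ => by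
      show mapDomain φ (single 0 _) = _
      rw [mapDomain_single, map_zero]
    have h01 : U N0 η₀ = U N1 η₀ := Units.ext (by rw [h, h])
    rw [delta_apply, h01, mul_inv_cancel, one_mul, h]
  let d : AddMonoidAlgebra A (Fin 2 → ℤ) :=
    (ξ : AddMonoidAlgebra A (Fin 2 → ℤ)) - single 0 ((ξ : AddMonoidAlgebra A (Fin 2 → ℤ)).coeff 0)
  let N : Ideal A := Ideal.span ((d.coeff.support.image d.coeff : Finset A) : Set A)
  have hN : N ≤ nilradical A := by
    refine Ideal.span_le.2 fun a ha => ?_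
    simp only [Finset.coe_image, Set.mem_image, Finset.mem_coe] at ha
    obtain ⟨m, -, rfl⟩ := ha
    rw [SetLike.mem_coe, nilradical_eq_sInf, Ideal.mem_sInf]
    intro P hP
    by_cases hm : m = 0
    · simp [d, hm]
    · simpa [d, hm] using (hprime P hP).2 m hm
  obtain ⟨n, hn⟩ := (Ideal.FG.isNilpotent_iff_le_nilradical ⟨_, rfl⟩).2 hN
  have hd : d ∈ CI N _ := mem_CI.2 fun m => by
    by_cases hm : m ∈ d.coeff.support
    · exact Ideal.subset_span (Finset.mem_coe.2 (Finset.mem_image_of_mem _ hm))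
    · rw [Finsupp.notMem_support_iff.1 hm]; exact N.zero_mem
  have hall : ∀ k, ∃ η, ((ξ * (delta η)⁻¹ : (AddMonoidAlgebra A (Fin 2 → ℤ))ˣ) :
      AddMonoidAlgebra A (Fin 2 → ℤ)) - 1 ∈ CI (N ^ (k + 1)) _ := by
    intro k
    induction k with
    | zero =>
      refine ⟨η₀, ?_⟩
      have := Ideal.mul_mem_right (((delta η₀)⁻¹ : (AddMonoidAlgebra A (Fin 2 → ℤ))ˣ) :
        AddMonoidAlgebra A (Fin 2 → ℤ)) _ hd
      simp only [d, ← hη₀, sub_mul, Units.mul_inv] at this
      simpa using this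
    | succ k ih =>
      obtain ⟨η, hη⟩ := ih
      obtain ⟨η', hη'⟩ := step (n := n) (I := N ^ (k + 1))
        (by rw [← pow_mul, mul_comm, pow_mul, show N ^ n = ⊥ from hn, ← Ideal.zero_eq_bot, zero_pow (by omega)])
        (hξ.mul (isCocycle_delta η).inv) hη
      refine ⟨η * η', ?_⟩
      rw [map_mul, mul_inv, ← mul_assoc]
      refine CI_mono ?_ hη'
      rw [← pow_add]
      exact Ideal.pow_le_pow_right (by omega)
  obtain ⟨η, hη⟩ := hall n
  have hb : N ^ (n + 1) = ⊥ := by
    rw [pow_succ, show N ^ n = ⊥ from hn, Ideal.bot_mul]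
  rw [hb] at hη
  refine ⟨η, ?_⟩
  rw [← mul_inv_eq_one]
  exact Units.ext (sub_eq_zero.1 (eq_zero_of_mem_CI_bot hη))

end Groth.Agent.H52.Laurent
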